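import Mathlib

/-!
# A functor preserving finite coproducts and filtered colimits preserves coproducts
-/
set_option autoImplicit false
universe w v₁ v₂ u₁ u₂
open CategoryTheory CategoryTheory.Limits

namespace Groth.Agent.H58.Repr

open CoproductsFromFiniteFiltered

variable {C : Type u₁} [Category.{v₁} C] [HasFiniteCoproducts C]
  {D : Type u₂} [Category.{v₂} D] (F : C ⥤ D) [PreservesFiniteCoproducts F]
  {α : Type w} (f : α → C) [HasCoproduct f] [HasColimitsOfShape (Finset (Discrete α)) C]
  [PreservesColimitsOfShape (Finset (Discrete α)) F]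

/-- the finite subcoproduct -/
noncomputable abbrev P (I : Finset (Discrete α)) : C := ∐ fun x : I => f x.1.as

/-- inclusion of a summand in the finite subcoproduct -/
noncomputable abbrev ιP (I : Finset (Discrete α)) (y : I) : f y.1.as ⟶ P f I :=
  Sigma.ι (fun x : I => f x.1.as) y

/-- inclusion of the finite subcoproduct -/
noncomputable abbrev jP (I : Finset (Discrete α)) : P f I ⟶ ∐ f :=
  (finiteSubcoproductsCocone f).ι.app I

/-- the transition maps -/
noncomputable abbrev kP {I I' : Finset (Discrete α)} (h : I ⟶ I') : P f I ⟶ P f I' :=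
  (liftToFinsetObj (Discrete.functor f)).map h

theorem ιP_jP (I : Finset (Discrete α)) (y : I) : ιP f I y ≫ jP f I = Sigma.ι f y.1.as :=
  colimit.ι_desc _ _

theorem ιP_kP {I I' : Finset (Discrete α)} (h : I ⟶ I') (y : I) :
    ιP f I y ≫ kP f h = ιP f I' ⟨y.1, h.down.down y.2⟩ :=
  colimit.ι_desc _ _

/-- the colimit cofan `F(∐_{x ∈ I} f x)` -/
noncomputable def finCofanIsColimit (I : Finset (Discrete α)) :
    IsColimit (F.mapCocone (colimit.cocone (Discrete.functor fun x : I => f x.1.as))) :=
  isColimitOfPreserves F (colimit.isColimit _)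

/-- descent from the finite subcoproduct -/
noncomputable def descP (s : Cocone (Discrete.functor f ⋙ F)) (I : Finset (Discrete α)) :
    F.obj (P f I) ⟶ s.pt :=
  (finCofanIsColimit F f I).desc
    { pt := s.pt
      ι := Discrete.natTrans fun x => s.ι.app x.as.1 }

theorem ιP_descP (s : Cocone (Discrete.functor f ⋙ F)) (I : Finset (Discrete α)) (y : I) :
    F.map (ιP f I y) ≫ descP F f s I = s.ι.app y.1 :=
  (finCofanIsColimit F f I).fac _ ⟨y⟩

theorem hom_ext_P (I : Finset (Discrete α)) {X : D} (a b : F.obj (P f I) ⟶ X)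
    (h : ∀ y : I, F.map (ιP f I y) ≫ a = F.map (ιP f I y) ≫ b) : a = b := by
  apply (finCofanIsColimit F f I).hom_ext
  rintro ⟨y⟩
  exact h y

theorem kP_descP (s : Cocone (Discrete.functor f ⋙ F)) {I I' : Finset (Discrete α)}
    (h : I ⟶ I') : F.map (kP f h) ≫ descP F f s I' = descP F f s I := by
  apply hom_ext_P F f I
  intro y
  rw [← Category.assoc, ← F.map_comp, ιP_kP, ιP_descP, ιP_descP]

/-- the induced cocone over the finite subcoproducts -/
noncomputable def liftCocone (s : Cocone (Discrete.functor f ⋙ F)) :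
    Cocone (liftToFinsetObj (Discrete.functor f) ⋙ F) where
  pt := s.pt
  ι :=
    { app := fun I => descP F f s I
      naturality := by
        intro I I' h
        exact (kP_descP F f s h).trans (Category.comp_id _).symm }

theorem preservesColimit_discrete : PreservesColimit (Discrete.functor f) F := by
  refine preservesColimit_of_preserves_colimit_cocone (colimit.isColimit _) ?_
  have t : IsColimit (F.mapCocone (finiteSubcoproductsCocone f)) :=
    isColimitOfPreserves F (isColimitFiniteSubproductsCocone f)
  refine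
    { desc := fun s => t.desc (liftCocone F f s)
      fac := ?_
      uniq := ?_ }
  · rintro s ⟨a⟩
    have h1 : F.map (Sigma.ι f a) =
        F.map (ιP f {⟨a⟩} ⟨⟨a⟩, Finset.mem_singleton_self _⟩) ≫ F.map (jP f {⟨a⟩}) := by
      rw [← F.map_comp, ιP_jP]
    have h2 : F.map (jP f {⟨a⟩}) ≫ t.desc (liftCocone F f s) = descP F f s {⟨a⟩} :=
      t.fac (liftCocone F f s) ({Discrete.mk a} : Finset (Discrete α))
    show F.map (Sigma.ι f a) ≫ t.desc (liftCocone F f s) = s.ι.app ⟨a⟩
    rw [h1, Category.assoc, h2]
    exact ιP_descP F f s {⟨a⟩} ⟨⟨a⟩, Finset.mem_singleton_self _⟩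
  · intro s m hm
    apply t.uniq (liftCocone F f s)
    intro I
    show F.map (jP f I) ≫ m = descP F f s I
    apply hom_ext_P F f I
    intro y
    rw [← Category.assoc, ← F.map_comp, ιP_jP, ιP_descP]
    exact hm y.1

end Groth.Agent.H58.Repr
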