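import Groth.Agent.H58.Repr.Coprod
import Groth.Agent.H58.LCColim3
import Groth.Agent.H58.LCLes
import Groth.Agent.H58.Conn.CdRad
import Groth.Agent.H58.LCArith

/-!
# Local cohomology in the top degree is a left adjoint
-/
set_option autoImplicit false
set_option linter.unusedSectionVars false
set_option linter.style.haveILetI false
universe u
open CategoryTheory CategoryTheory.Limits

namespace Groth.Agent.H58.Repr

open Groth.Agent.H58.LC

section Additive
variable {S : Type u} [CommRing S] (J : Ideal S) (i : ℕ)

instance additive_localCohomology : (localCohomology J i).Additive where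
  map_add := by
    intro M N f g
    apply ModuleCat.hom_ext
    apply LinearMap.ext
    intro x
    obtain ⟨n, e, rfl⟩ := exists_rep J i M x
    rw [ModuleCat.hom_add, LinearMap.add_apply, map_ι, map_ι, map_ι, Abelian.Ext.mk₀_add,
      Abelian.Ext.comp_add, map_add]

end Additive

section RightExact
variable {S : Type u} [CommRing S] [IsNoetherianRing S] (J : Ideal S) (d : ℕ)

theorem preservesFiniteColimits_of_cd
    (hcd : ∀ M : ModuleCat.{u} S, Subsingleton ((localCohomology J (d + 1)).obj M)) :
    PreservesFiniteColimits (localCohomology J d) := by
  refine ((Functor.preservesFiniteColimits_tfae (localCohomology J d)).out 0 3).1 ?_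
  intro T hT
  constructor
  · rw [ShortComplex.moduleCat_exact_iff]
    intro x hx
    exact exact₂ J d hT x hx
  · rw [ModuleCat.epi_iff_surjective]
    intro x
    haveI := hcd T.X₁
    exact exact₃ J d hT x (Subsingleton.elim _ _)

theorem preservesColimits_of_cd
    (hcd : ∀ M : ModuleCat.{u} S, Subsingleton ((localCohomology J (d + 1)).obj M)) :
    PreservesColimitsOfSize.{u, u} (localCohomology J d) := by
  haveI := preservesFiniteColimits_of_cd J d hcd
  haveI : ∀ α : Type u, PreservesColimitsOfShape (Discrete α) (localCohomology J d) := by
    intro α
    haveI : PreservesColimitsOfShape (Finset (Discrete α)) (localCohomology J d) :=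
      Groth.Agent.H58.LCColim.localCohomology_preservesFiltered J d (Finset (Discrete α))
    constructor
    intro K
    haveI : PreservesColimit (Discrete.functor (K.obj ∘ Discrete.mk)) (localCohomology J d) :=
      preservesColimit_discrete (localCohomology J d) (K.obj ∘ Discrete.mk)
    exact preservesColimit_of_iso_diagram (localCohomology J d) Discrete.natIsoFunctor.symm
  exact preservesColimits_of_preservesCoequalizers_and_coproducts (localCohomology J d)

end RightExact

section Main
variable (R S : Type u) [CommRing R] [CommRing S] [IsNoetherianRing S] [Algebra R S]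
  (J : Ideal S) (d : ℕ)

theorem isRepresentable_of_preservesColimits
    [PreservesColimitsOfSize.{u, u} (localCohomology J d)]
    (F : Type u) [AddCommGroup F] [Module R F] :
    ((localCohomology J d ⋙ ModuleCat.restrictScalars (algebraMap R S)).op ⋙
      yoneda.obj (ModuleCat.of R F)).IsRepresentable := by
  haveI : (localCohomology J d ⋙ ModuleCat.restrictScalars (algebraMap R S)).IsLeftAdjoint := by
    have hsep : ObjectProperty.IsSeparating
        (ObjectProperty.singleton (ModuleCat.of.{u} S (Shrink.{u} S))) :=
      (ModuleCat.isSeparator S)
    exact isLeftAdjoint_of_preservesColimits_of_isSeparating hsep _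
  exact ((Adjunction.ofIsLeftAdjoint
    (localCohomology J d ⋙ ModuleCat.restrictScalars (algebraMap R S))).representableBy
      (ModuleCat.of R F)).isRepresentable

theorem subsingleton_H_succ (u : Fin d → S) (hu : ∀ i, u i ∈ J)
    (hJ : J ≤ (Ideal.span (Set.range u)).radical) (M : ModuleCat.{u} S) :
    Subsingleton ((localCohomology J (d + 1)).obj M) := by
  classical
  let s : Finset S := Finset.univ.image u
  have hs : (s : Set S) = Set.range u := by simp [s]
  have hcard : s.card ≤ d := Finset.card_image_le.trans (by simp)
  have h1 : Subsingleton ((localCohomology (Ideal.span (s : Set S)) (d + 1)).obj M) :=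
    subsingleton_H_of_card_lt d s hcard M (d + 1) (Nat.lt_succ_self d)
  have hrad : (Ideal.span (s : Set S)).radical = J.radical := by
    rw [hs]
    apply le_antisymm
    · apply Ideal.radical_mono
      rw [Ideal.span_le]
      rintro _ ⟨i, rfl⟩
      exact hu i
    · exact Ideal.radical_le_radical_iff.2 hJ
  exact Groth.Agent.H58.Conn.subsingleton_H_of_radical_eq _ J hrad M (d + 1) h1

theorem isRepresentable (u : Fin d → S) (hu : ∀ i, u i ∈ J)
    (hJ : J ≤ (Ideal.span (Set.range u)).radical)
    (F : Type u) [AddCommGroup F] [Module R F] :
    ((localCohomology J d ⋙ ModuleCat.restrictScalars (algebraMap R S)).op ⋙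
      yoneda.obj (ModuleCat.of R F)).IsRepresentable := by
  haveI := preservesColimits_of_cd J d (subsingleton_H_succ S J d u hu hJ)
  exact isRepresentable_of_preservesColimits R S J d F

end Main

end Groth.Agent.H58.Repr
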